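/-
A 3-transposition class inverting a 3-group, acting on an elementary abelian 2-group.
-/
import Cfsg.Agent.Lib.ThreeTrans.Elementary
import Cfsg.Agent.Lib.Basic

set_option autoImplicit false
set_option linter.style.haveILetI false

namespace CfsgTTT

variable {X V : Type*} [Group X] [Finite X] [CommGroup V]

/-- The hypotheses. -/
structure Setting (E : Set X) (P : Subgroup X) (ρ : X →* MulAut V) : Prop where
  inv : ∀ d ∈ E, d * d = 1 ∧ d ≠ 1
  conj : ∀ g : X, ∀ d ∈ E, g * d * g⁻¹ ∈ E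
  gen : Subgroup.closure E = ⊤
  two : ∃ d ∈ E, ∃ e ∈ E, d ≠ e
  three : ∀ d ∈ E, ∀ e ∈ E, d ≠ e → (d * e) ^ 3 = 1
  normal : P.Normal
  pgroup : IsPGroup 3 P
  index : P.index = 2
  vsq : ∀ v : V, v * v = 1
  inj : Function.Injective ρ
  fix : ∀ d ∈ E, ∀ e ∈ E, d ≠ e → ∀ v : V, ρ (d * e) v = v → ρ d v = v

variable {E : Set X} {P : Subgroup X} {ρ : X →* MulAut V} (S : Setting E P ρ)
include S

theorem hodd {g : X} (hg : g ∈ P) (h : g * g = 1) : g = 1 := by
  haveI : Fact (Nat.Prime 3) := ⟨Nat.prime_three⟩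
  obtain ⟨k, hk⟩ := IsPGroup.iff_orderOf.mp S.pgroup ⟨g, hg⟩
  rw [Subgroup.orderOf_mk] at hk
  have : Nat.Coprime (orderOf g) 2 := by rw [hk]; exact Nat.Coprime.pow_left _ (by norm_num)
  exact orderOf_eq_one_iff.mp (this.eq_one_of_dvd (orderOf_dvd_of_pow_eq_one (by rw [pow_two]; exact h)))

theorem notMem {d : X} (hd : d ∈ E) : d ∉ P := fun h => (S.inv d hd).2 (hodd S h (S.inv d hd).1)

theorem dinv {d : X} (hd : d ∈ E) : d⁻¹ = d := inv_eq_of_mul_eq_one_right (S.inv d hd).1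

theorem conjP {d g : X} (hd : d ∈ E) (hg : g ∈ P) : d * g * d ∈ P := by
  have := S.normal.conj_mem g hg d
  rwa [dinv S hd] at this

/-- Square roots. -/
theorem sqrt {x : X} (hx : x ∈ P) : ∃ m : ℕ, x ^ m * x ^ m = x := by
  haveI : Fact (Nat.Prime 3) := ⟨Nat.prime_three⟩
  obtain ⟨k, hk⟩ := IsPGroup.iff_orderOf.mp S.pgroup ⟨x, hx⟩
  rw [Subgroup.orderOf_mk] at hk
  obtain ⟨j, hj⟩ : Odd (3 ^ k) := Odd.pow (by decide)
  refine ⟨j + 1, ?_⟩
  rw [← pow_add, show j + 1 + (j + 1) = 3 ^ k + 1 by omega, pow_succ, ← hk, pow_orderOf_eq_one, one_mul]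

theorem pow_inverted {d x : X} (hd : d ∈ E) (h : d * x * d = x⁻¹) (m : ℕ) : d * x ^ m * d = (x ^ m)⁻¹ := by
  have := conj_pow (a := d) (b := x) (i := m)
  rw [dinv S hd, h, inv_pow] at this
  exact this.symm

theorem inverted_mem {d j : X} (hd : d ∈ E) (hj : j ∈ P) (h : d * j * d = j⁻¹) (hj1 : j ≠ 1) : d * j ∈ E ∧ d * j ≠ d := by
  obtain ⟨m, hm⟩ := sqrt S hj
  have hr := pow_inverted S hd h m
  refine ⟨?_, fun e => hj1 (mul_eq_left.mp e)⟩
  have e : (x : X) → x = j ^ m → d * j = x⁻¹ * d * x := by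
    rintro x rfl
    rw [← hr]
    simp only [mul_assoc]
    rw [← mul_assoc d d, (S.inv d hd).1, one_mul, hm]
  rw [e _ rfl]
  simpa using S.conj (j ^ m)⁻¹ d hd

theorem inverted_cube {d j : X} (hd : d ∈ E) (hj : j ∈ P) (h : d * j * d = j⁻¹) : j ^ 3 = 1 := by
  by_cases hj1 : j = 1
  · rw [hj1, one_pow]
  obtain ⟨h1, h2⟩ := inverted_mem S hd hj h hj1
  have := S.three d hd _ h1 (Ne.symm h2)
  rwa [← mul_assoc, (S.inv d hd).1, one_mul] at this

theorem fixI {d j : X} (hd : d ∈ E) (hj : j ∈ P) (h : d * j * d = j⁻¹) (hj1 : j ≠ 1) {v : V} (hv : ρ j v = v) :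
    ρ d v = v := by
  obtain ⟨h1, h2⟩ := inverted_mem S hd hj h hj1
  exact S.fix d hd _ h1 (Ne.symm h2) v (by rwa [← mul_assoc, (S.inv d hd).1, one_mul])

omit [Finite X] [CommGroup V] S in
theorem mul4 {A : Type*} [CommGroup A] (h : ∀ v : A, v * v = 1) (v a b c d e f g k : A) :
    v = (v * a * b) * (v * c * d) * (v * e * f) * (v * g * k) * (v * a * b * c * d * e * f * g * k) := by
  have : (v * a * b) * (v * c * d) * (v * e * f) * (v * g * k) * (v * a * b * c * d * e * f * g * k) =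
      v * ((v * v) * (v * v) * ((a * a) * (b * b) * (c * c) * (d * d) * (e * e) * (f * f) * (g * g) * (k * k))) := by
    simp only [mul_assoc, mul_comm, mul_left_comm]
  rw [this]
  simp [h]

/-- Decomposition of a vector for two commuting operators of order three. -/
theorem four {i j : X} (hi : i ^ 3 = 1) (hj : j ^ 3 = 1) {v : V} (hc : ∀ w : V, (∃ g, ρ g v = w) → ρ i (ρ j w) = ρ j (ρ i w))
    (W : Subgroup V) (h1 : ∀ w, (∃ a b : V, (∃ g, ρ g v = a) ∧ w = a * ρ i a * ρ i (ρ i a)) → w ∈ W)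
    (h2 : ∀ w, (∃ a : V, (∃ g, ρ g v = a) ∧ w = a * ρ j a * ρ j (ρ j a)) → w ∈ W)
    (h3 : ∀ w, (∃ a : V, (∃ g, ρ g v = a) ∧ w = a * ρ (i * j) a * ρ (i * j) (ρ (i * j) a)) → w ∈ W)
    (h4 : ∀ w, (∃ a : V, (∃ g, ρ g v = a) ∧ w = a * ρ (i * j⁻¹) a * ρ (i * j⁻¹) (ρ (i * j⁻¹) a)) → w ∈ W) : v ∈ W := by
  have cmp : ∀ g k w, ρ g (ρ k w) = ρ (g * k) w := fun g k w => by rw [map_mul]; rfl
  set a := ρ i v with ha
  set b := ρ i a with hb
  set c := ρ j v with hcc
  set d := ρ j c with hdd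
  set e := ρ (i * j) v with he
  set f := ρ (i * j) e with hf
  set g := ρ (i * j⁻¹) v with hg
  set k := ρ (i * j⁻¹) g with hk
  have m1 : v * a * b ∈ W := h1 _ ⟨v, v, ⟨1, by simp⟩, rfl⟩
  have m2 : v * c * d ∈ W := h2 _ ⟨v, ⟨1, by simp⟩, rfl⟩
  have m3 : v * e * f ∈ W := h3 _ ⟨v, ⟨1, by simp⟩, rfl⟩
  have m4 : v * g * k ∈ W := h4 _ ⟨v, ⟨1, by simp⟩, rfl⟩
  -- the full trace
  have hjj : ∀ w, ρ j (ρ j (ρ j w)) = w := fun w => by rw [cmp, cmp, ← pow_three', hj, map_one]; rfl
  have hji : ∀ w, ρ j⁻¹ w = ρ j (ρ j w) := fun w => by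
    rw [cmp, show j⁻¹ = j * j from inv_eq_of_mul_eq_one_right (by rw [← mul_assoc, ← pow_three' j]; exact hj)]
  have eo : ∀ w, (∃ g, ρ g v = w) → ∀ h, ∃ g, ρ g v = ρ h w := fun w ⟨g, hg⟩ h => ⟨h * g, by rw [← cmp, hg]⟩
  have o0 : ∃ g, ρ g v = v := ⟨1, by simp⟩
  have hS : v * c * d ∈ W := m2
  have hT : v * a * b * c * d * e * f * g * k =
      (v * c * d) * ρ i (v * c * d) * ρ i (ρ i (v * c * d)) := by
    have e1 : e = ρ i c := by rw [he, ← cmp]
    have e2 : g = ρ i d := by rw [hg, ← cmp, hji]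
    have e3 : f = ρ i (ρ i d) := by
      rw [hf, e1, ← cmp, ← hc c ⟨j, rfl⟩]
    have e4 : k = ρ i (ρ i c) := by
      rw [hk, e2, ← cmp, hji, ← hc d (eo c ⟨j, rfl⟩ j), ← hc (ρ j d) (eo d (eo c ⟨j, rfl⟩ j) j), hdd, hcc, hjj]
    rw [map_mul, map_mul, map_mul, map_mul, e1, e2, e3, e4, hb, ha]
    simp only [mul_assoc, mul_comm, mul_left_comm]
  have mT : v * a * b * c * d * e * f * g * k ∈ W := by
    have := mul_mem (mul_mem (h1 _ ⟨v, v, o0, rfl⟩) (h1 _ ⟨c, c, ⟨j, rfl⟩, rfl⟩)) (h1 _ ⟨d, d, eo c ⟨j, rfl⟩ j, rfl⟩)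
    rw [hT, map_mul, map_mul, map_mul, map_mul]
    convert this using 1
    simp only [mul_assoc, mul_comm, mul_left_comm]
  rw [mul4 S.vsq v a b c d e f g k]
  exact mul_mem (mul_mem (mul_mem (mul_mem m1 m2) m3) m4) mT

/-- The fixed subgroup. -/
def Fx (ρ : X →* MulAut V) (d : X) : Subgroup V where
  carrier := {v | ρ d v = v}
  one_mem' := map_one _
  mul_mem' := fun {a b} ha hb => by
    show ρ d (a * b) = a * b
    rw [map_mul, ha, hb]
  inv_mem' := fun {a} ha => by
    show ρ d a⁻¹ = a⁻¹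
    rw [map_inv, ha]

theorem trace_fix {k : X} (hk : k ^ 3 = 1) (a : V) :
    ρ k (a * ρ k a * ρ k (ρ k a)) = a * ρ k a * ρ k (ρ k a) := by
  have : ρ k (ρ k (ρ k a)) = a := by
    show (ρ k * (ρ k * ρ k)) a = a
    rw [← map_mul, ← map_mul, ← pow_three, hk, map_one]; rfl
  rw [map_mul, map_mul, this]
  ac_rfl

/-- Two independent inverted elements commuting up to a central element fix nothing new. -/
theorem fixW {d i j z : X} (hd : d ∈ E) (hi : i ∈ P) (hdi : d * i * d = i⁻¹) (hj : j ∈ P) (hdj : d * j * d = j⁻¹)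
    (hz : i⁻¹ * j⁻¹ * i * j = z) (hzc : ∀ g : X, g * z = z * g) (hi1 : i ≠ 1) (hj1 : j ≠ 1) (hij : j ≠ i) (hij' : j ≠ i⁻¹)
    {v : V} (hv : ρ z v = v) : ρ d v = v := by
  classical
  have cmp : ∀ g k w, ρ g (ρ k w) = ρ (g * k) w := fun g k w => by rw [map_mul]; rfl
  have hO : ∀ w : V, (∃ g, ρ g v = w) → ∀ m : ℕ, ρ (z ^ m) w = w := by
    rintro w ⟨g, rfl⟩ m
    induction m with
    | zero => simp
    | succ m ih => rw [pow_succ, ← cmp, cmp z g, ← hzc, ← cmp, hv, ih]
  have hi3 := inverted_cube S hd hi hdi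
  have hj3 := inverted_cube S hd hj hdj
  -- the diagonal subgroups
  have diag : ∀ p q zz : X, p ∈ P → q ∈ P → d * p * d = p⁻¹ → d * q * d = q⁻¹ → p⁻¹ * q⁻¹ * p * q = zz →
      (∀ g, g * zz = zz * g) → (∀ w : V, (∃ g, ρ g v = w) → ∀ m : ℕ, ρ (zz ^ m) w = w) → p * q ≠ 1 → p ≠ q⁻¹ → q ≠ 1 →
      ∀ a : V, (∃ g, ρ g v = a) → ρ d (a * ρ (p * q) a * ρ (p * q) (ρ (p * q) a)) = a * ρ (p * q) a * ρ (p * q) (ρ (p * q) a) := by
    intro p q zz hp hq hdp hdq hzz hzzc hfixzz hne hne' hq1 a ha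
    have hzzP : zz ∈ P := hzz ▸ mul_mem (mul_mem (mul_mem (inv_mem hp) (inv_mem hq)) hp) hq
    obtain ⟨m, hm⟩ := sqrt S (inv_mem hzzP)
    set w := zz⁻¹ ^ m with hw
    have hdg : d * (p * q) * d = p⁻¹ * q⁻¹ := by
      rw [← hdp, ← hdq]
      simp only [mul_assoc]
      rw [← mul_assoc d d, (S.inv d hd).1, one_mul]
    have hwc : ∀ g, g * w = w * g := fun g => (Commute.pow_right (Commute.inv_right (hzzc g)) m).eq
    set k := p * q * w with hk
    have hkP : k ∈ P := mul_mem (mul_mem hp hq) (pow_mem (inv_mem hzzP) m)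
    have hdk : d * k * d = k⁻¹ := by
      refine eq_inv_of_mul_eq_one_left ?_
      calc d * k * d * k = d * (p * q) * (d * w) * k := by rw [hk, hwc d]; simp only [mul_assoc]
        _ = p⁻¹ * q⁻¹ * (w * (p * q)) * w := by rw [← mul_assoc _ d w, hdg, hk]; simp only [mul_assoc]
        _ = p⁻¹ * q⁻¹ * (p * q) * (w * w) := by rw [← hwc (p * q)]; simp only [mul_assoc]
        _ = 1 := by rw [hm, ← mul_assoc _ p q, hzz, mul_inv_cancel]
    have hk1 : k ≠ 1 := by
      intro e
      have hg : p * q = w⁻¹ := eq_inv_of_mul_eq_one_left e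
      have hwfix : d * w⁻¹ * d = w⁻¹ := by
        rw [(Commute.inv_right (hwc d : Commute d w)).eq, mul_assoc, (S.inv d hd).1, mul_one]
      rw [← hg, hdg, hg] at hwfix
      have hpq : p⁻¹ * q⁻¹ = p * q := hwfix.trans hg.symm
      have hcomm : Commute p w := hwc p
      have hp2 : q = p⁻¹ * w⁻¹ := by rw [← hg]; simp
      have : (p * q) * (p * q) = 1 := by
        calc (p * q) * (p * q) = (p * q) * (p⁻¹ * q⁻¹) := by rw [hpq]
          _ = 1 := by
            rw [hp2, mul_inv_cancel_left, mul_inv_rev, inv_inv, inv_inv]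
            have h2 : Commute w p := hcomm.symm
            rw [show p⁻¹ * (w * p) = w by rw [h2.eq, inv_mul_cancel_left], inv_mul_cancel]
      exact hne (hodd S (mul_mem hp hq) this)
    -- `ρ k` agrees with `ρ (p * q)` on the orbit
    have heq : ∀ b : V, (∃ g, ρ g v = b) → ρ k b = ρ (p * q) b := fun b hb => by
      rw [hk, ← cmp]
      congr 1
      rw [hw, inv_pow, map_inv]
      exact (MulEquiv.symm_apply_eq _).mpr (hfixzz b hb m).symm
    have e1 := heq a ha
    have e2 := heq (ρ (p * q) a) (by obtain ⟨g, hg⟩ := ha; exact ⟨p * q * g, by rw [← cmp, hg]⟩)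
    rw [← e2, ← e1]
    exact fixI S hd hkP hdk hk1 (trace_fix S (inverted_cube S hd hkP hdk) a)
  refine four S hi3 hj3 ?_ (Fx ρ d) ?_ ?_ ?_ ?_
  · intro w hw
    rw [cmp, cmp]
    have : i * j = j * i * z := by rw [← hz]; group
    rw [this, ← cmp, show ρ z w = w by simpa using hO w hw 1]
  · rintro _ ⟨a, -, -, rfl⟩
    exact fixI S hd hi hdi hi1 (trace_fix S hi3 a)
  · rintro _ ⟨a, -, rfl⟩
    exact fixI S hd hj hdj hj1 (trace_fix S hj3 a)
  · rintro _ ⟨a, ha, rfl⟩
    refine diag i j z hi hj hdi hdj hz hzc hO (fun e => hij' (eq_inv_of_mul_eq_one_right e)) ?_ hj1 a ha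
    intro e
    exact hij' (by rw [e, inv_inv])
  · rintro _ ⟨a, ha, rfl⟩
    have hdj' : d * j⁻¹ * d = j⁻¹⁻¹ := by
      have := congrArg (·⁻¹) hdj
      simpa [mul_inv_rev, dinv S hd, mul_assoc] using this
    have hz' : i⁻¹ * j⁻¹⁻¹ * i * j⁻¹ = z⁻¹ := by
      have e : i⁻¹ * j⁻¹⁻¹ * i * j⁻¹ = j * z⁻¹ * j⁻¹ := by rw [← hz]; group
      rw [e, ((Commute.inv_right (hzc j : Commute j z))).eq, mul_inv_cancel_right]
    refine diag i j⁻¹ z⁻¹ hi (inv_mem hj) hdi hdj' hz' (fun g => (Commute.inv_right (hzc g)).eq) ?_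
      (fun e => hij (mul_inv_eq_one.mp e).symm) (fun e => hij (by rw [e, inv_inv])) (fun e => hj1 (inv_eq_one.mp e)) a ha
    intro w hw m
    rw [inv_pow, map_inv]
    exact (MulEquiv.symm_apply_eq _).mpr (hO w hw m).symm

theorem eq_one_of_fix {d : X} (hd : d ∈ E) (h : ∀ v, ρ d v = v) : False :=
  (S.inv d hd).2 (S.inj (by rw [map_one]; exact MulEquiv.ext h))

theorem cases_commute {d i j : X} (hd : d ∈ E) (hi : i ∈ P) (hdi : d * i * d = i⁻¹) (hj : j ∈ P) (hdj : d * j * d = j⁻¹)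
    (hi1 : i ≠ 1) (hc : Commute i j) : j = 1 ∨ j = i ∨ j = i⁻¹ := by
  by_contra hcon
  push Not at hcon
  refine eq_one_of_fix S hd fun v => fixW S hd hi hdi hj hdj (z := 1) ?_ (fun g => by simp) hi1 hcon.1 hcon.2.1 hcon.2.2 (by simp)
  rw [mul_assoc _ i j, hc.eq]; group

/-- Decomposition into an inverted and a fixed part. -/
theorem decomp {d g : X} (hd : d ∈ E) (hg : g ∈ P) :
    ∃ r s, g = r * s ∧ r ∈ P ∧ s ∈ P ∧ d * r * d = r⁻¹ ∧ Commute d s := by
  set x := g * (d * g * d)⁻¹ with hx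
  have hxP : x ∈ P := mul_mem hg (inv_mem (conjP S hd hg))
  have hdx : d * x * d = x⁻¹ := by
    rw [hx]
    simp only [mul_inv_rev, dinv S hd, mul_assoc, inv_inv, (S.inv d hd).1, mul_one]
  obtain ⟨m, hm⟩ := sqrt S hxP
  set r := x ^ m with hr
  have hdr : d * r * d = r⁻¹ := pow_inverted S hd hdx m
  refine ⟨r, r⁻¹ * g, by group, pow_mem hxP m, mul_mem (inv_mem (pow_mem hxP m)) hg, hdr, ?_⟩
  have h1 : d * (r⁻¹ * g) * d = r⁻¹ * g := by
    calc d * (r⁻¹ * g) * d = (d * r * d)⁻¹ * (d * g * d) := by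
          simp only [mul_inv_rev, dinv S hd, mul_assoc]
          rw [← mul_assoc d d (g * d), (S.inv d hd).1, one_mul]
      _ = r * (d * g * d) := by rw [hdr, inv_inv]
      _ = r⁻¹ * (r * r) * (d * g * d) := by simp
      _ = r⁻¹ * g := by rw [hm, hx]; group
  show d * (r⁻¹ * g) = r⁻¹ * g * d
  have := congrArg (· * d) h1
  simpa [mul_assoc, (S.inv d hd).1] using this

theorem prod_mem {d e : X} (hd : d ∈ E) (he : e ∈ E) : d * e ∈ P :=
  (Subgroup.mul_mem_iff_of_index_two S.index).mpr (iff_of_false (notMem S hd) (notMem S he))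

theorem prod_inverted {d e : X} (hd : d ∈ E) (he : e ∈ E) : d * (d * e) * d = (d * e)⁻¹ := by
  rw [← mul_assoc, (S.inv d hd).1, one_mul, mul_inv_rev, dinv S hd, dinv S he]

/-- A central inverted element gives the symmetric group of degree three. -/
theorem s3_case {d a : X} (hd : d ∈ E) (ha : a ∈ P) (hda : d * a * d = a⁻¹) (ha1 : a ≠ 1) (hc : ∀ h ∈ P, a * h = h * a) :
    Nonempty (X ≃* Equiv.Perm (Fin 3)) := by
  obtain ⟨he, hne⟩ := inverted_mem S hd ha hda ha1
  have hset : Cfsg.IsThreeTranspositionSet E := by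
    refine ⟨fun x hx => orderOf_eq_prime (by rw [pow_two, (S.inv x hx).1]) (S.inv x hx).2, fun x hx y hy => ?_⟩
    by_cases h : x = y
    · exact Or.inl (by rw [h, (S.inv y hy).1, one_pow])
    · exact Or.inr (S.three x hx y hy h)
  have hnc : ¬ Commute d (d * a) := fun e => ha1 (hodd S ha (by
    have h1 : a = a⁻¹ := by
      have := e.eq
      rw [← mul_assoc, (S.inv d hd).1, one_mul] at this
      rw [← hda]; exact this
    nth_rewrite 1 [h1]
    exact inv_mul_cancel a))
  obtain ⟨iso⟩ := CfsgThreeTrans.S3_iso hset hd he hnc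
  have htop : Subgroup.closure ({d, d * a} : Set X) = ⊤ := by
    rw [eq_top_iff, ← S.gen, Subgroup.closure_le]
    intro e hee
    have h1 : d ∈ Subgroup.closure ({d, d * a} : Set X) := Subgroup.subset_closure (by simp)
    have h2 : d * a ∈ Subgroup.closure ({d, d * a} : Set X) := Subgroup.subset_closure (by simp)
    have ha' : a ∈ Subgroup.closure ({d, d * a} : Set X) := by
      have := mul_mem h1 h2
      rwa [← mul_assoc, (S.inv d hd).1, one_mul] at this
    have hem : e = d * (d * e) := by rw [← mul_assoc, (S.inv d hd).1, one_mul]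
    rw [SetLike.mem_coe, hem]
    refine mul_mem h1 ?_
    rcases cases_commute S hd ha hda (prod_mem S hd hee) (prod_inverted S hd hee) ha1 (hc _ (prod_mem S hd hee)) with e' | e' | e' <;>
      rw [e']
    exacts [one_mem _, ha', inv_mem ha']
  exact ⟨(Subgroup.topEquiv.symm.trans (MulEquiv.subgroupCongr htop.symm)).trans iso⟩

/-- Either the group is symmetric of degree three or the 3-part has order 27. -/
theorem main : Nonempty (X ≃* Equiv.Perm (Fin 3)) ∨ (Nat.card P = 27 ∧ Subgroup.center X ≠ ⊥) := by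
  classical
  haveI : Fact (Nat.Prime 3) := ⟨Nat.prime_three⟩
  haveI := S.normal
  by_cases hA : ∃ d ∈ E, ∃ a ∈ P, d * a * d = a⁻¹ ∧ a ≠ 1 ∧ ∀ h ∈ P, a * h = h * a
  · obtain ⟨d, hd, a, ha, hda, ha1, hc⟩ := hA
    exact Or.inl (s3_case S hd ha hda ha1 hc)
  push Not at hA
  -- the centre of `P` is central
  have hgenC : ∀ g : X, (∀ e ∈ E, e * g = g * e) → ∀ h : X, h * g = g * h := by
    intro g hg h
    have hle : Subgroup.closure E ≤ Subgroup.centralizer ({g} : Set X) :=
      (Subgroup.closure_le _).mpr fun e he => Subgroup.mem_centralizer_singleton_iff.mpr (hg e he)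
    exact Subgroup.mem_centralizer_singleton_iff.mp (hle (S.gen ▸ Subgroup.mem_top h))
  have hZc : ∀ g ∈ P, (∀ h ∈ P, g * h = h * g) → ∀ x : X, x * g = g * x := by
    intro g hg hgc
    refine hgenC g fun e he => ?_
    have hr : g * (e * g * e)⁻¹ ∈ P := mul_mem hg (inv_mem (conjP S he hg))
    have hinvd : e * (g * (e * g * e)⁻¹) * e = (g * (e * g * e)⁻¹)⁻¹ := by
      simp only [mul_inv_rev, dinv S he, mul_assoc, inv_inv, (S.inv e he).1, mul_one]
    by_cases h1 : g * (e * g * e)⁻¹ = 1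
    · have := mul_inv_eq_one.mp h1
      nth_rewrite 2 [this]
      rw [mul_assoc, (S.inv e he).1, mul_one]
    · exfalso
      obtain ⟨h, hh, hne⟩ := hA e he _ hr hinvd h1
      refine hne (Commute.mul_left (hgc h hh) (Commute.inv_left ?_)).eq
      have := Commute.map (hgc (e * h * e) (conjP S he hh)) (MulAut.conj e).toMonoidHom
      simpa [dinv S he, mul_assoc, (S.inv e he).1, CfsgThreeTrans.mul_mul_cancel_self (S.inv e he).1] using this
  -- an inverted element of the second centre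
  have hnab : ¬ ∀ g ∈ P, ∀ h ∈ P, g * h = h * g := by
    intro hab
    obtain ⟨d, hd, e, he, hne⟩ := S.two
    have hm := prod_mem S hd he
    have hc := hZc _ hm (hab _ hm) d
    rw [← mul_assoc, (S.inv d hd).1, one_mul] at hc
    have h2 : (d * e) * (d * e) = 1 := by
      rw [← mul_assoc (d * e) d e, ← hc, (S.inv e he).1]
    exact hne (by rw [eq_inv_of_mul_eq_one_left (hodd S hm h2), dinv S he])
  obtain ⟨g, hgP, hg2, hgnc⟩ : ∃ g ∈ P, (∀ h ∈ P, ∀ k ∈ P, k * (g⁻¹ * h⁻¹ * g * h) = (g⁻¹ * h⁻¹ * g * h) * k) ∧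
      ¬ ∀ h ∈ P, g * h = h * g := by
    have hnt : Nontrivial (P ⧸ Subgroup.center P) := by
      rw [QuotientGroup.nontrivial_iff]
      intro htop
      exact hnab fun g hg h hh => (congrArg Subtype.val
        (Subgroup.mem_center_iff.mp (htop ▸ Subgroup.mem_top (⟨g, hg⟩ : P)) ⟨h, hh⟩)).symm
    have := (S.pgroup.to_quotient (Subgroup.center P)).center_nontrivial
    obtain ⟨⟨gq, hgq⟩, hne⟩ := exists_ne (1 : Subgroup.center (P ⧸ Subgroup.center P))
    obtain ⟨g, rfl⟩ := QuotientGroup.mk_surjective gq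
    refine ⟨g, g.2, fun h hh k hk => ?_, fun hall => hne (Subtype.ext ?_)⟩
    · have hc : g⁻¹ * (⟨h, hh⟩ : P)⁻¹ * g * ⟨h, hh⟩ ∈ Subgroup.center P := by
        rw [← QuotientGroup.eq_one_iff]
        simp only [QuotientGroup.mk_mul, QuotientGroup.mk_inv]
        rw [mul_assoc _ ((g : P) : P ⧸ Subgroup.center P), ← Subgroup.mem_center_iff.mp hgq]
        group
      exact congrArg Subtype.val (Subgroup.mem_center_iff.mp hc ⟨k, hk⟩)
    · exact (QuotientGroup.eq_one_iff _).mpr (Subgroup.mem_center_iff.mpr fun k => Subtype.ext (hall k k.2).symm)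
  obtain ⟨d, hd, a, haP, hda, ha1, ha2⟩ : ∃ d ∈ E, ∃ a ∈ P, d * a * d = a⁻¹ ∧ a ≠ 1 ∧
      ∀ h ∈ P, ∀ k ∈ P, k * (a⁻¹ * h⁻¹ * a * h) = (a⁻¹ * h⁻¹ * a * h) * k := by
    obtain ⟨e, he, hne⟩ : ∃ e ∈ E, e * g ≠ g * e := by
      by_contra hc
      push Not at hc
      exact hgnc fun h _ => (hgenC g hc h).symm
    refine ⟨e, he, g * (e * g * e)⁻¹, mul_mem hgP (inv_mem (conjP S he hgP)), ?_, ?_, ?_⟩
    · simp only [mul_inv_rev, dinv S he, mul_assoc, inv_inv, (S.inv e he).1, mul_one]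
    · intro h1
      refine hne ?_
      have := mul_inv_eq_one.mp h1
      nth_rewrite 2 [this]
      rw [mul_assoc, (S.inv e he).1, mul_one]
    · -- the second centre is a group invariant under `e`
      set u := e * g * e with hu
      have huP : u ∈ P := conjP S he hgP
      have hu2 : ∀ h ∈ P, ∀ x : X, x * (u⁻¹ * h⁻¹ * u * h) = (u⁻¹ * h⁻¹ * u * h) * x := by
        intro h hh
        have hh' := conjP S he hh
        have hz := hg2 (e * h * e) hh'
        have hzP : g⁻¹ * (e * h * e)⁻¹ * g * (e * h * e) ∈ P :=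
          mul_mem (mul_mem (mul_mem (inv_mem hgP) (inv_mem hh')) hgP) hh'
        have hcen := hZc _ hzP fun k hk => (hz k hk).symm
        have e1 : u⁻¹ * h⁻¹ * u * h = g⁻¹ * (e * h * e)⁻¹ * g * (e * h * e) := by
          calc u⁻¹ * h⁻¹ * u * h = e * (g⁻¹ * (e * h * e)⁻¹ * g * (e * h * e)) * e := by
                simp only [hu, mul_inv_rev, dinv S he, mul_assoc, (S.inv e he).1, mul_one]
            _ = _ := by rw [hcen, mul_assoc, (S.inv e he).1, mul_one]
        rw [e1]; exact hcen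
      have hg2' : ∀ h ∈ P, ∀ x : X, x * (g⁻¹ * h⁻¹ * g * h) = (g⁻¹ * h⁻¹ * g * h) * x := fun h hh =>
        hZc _ (mul_mem (mul_mem (mul_mem (inv_mem hgP) (inv_mem hh)) hgP) hh) fun k hk => (hg2 h hh k hk).symm
      intro h hh k _
      have e2 : (g * u⁻¹)⁻¹ * h⁻¹ * (g * u⁻¹) * h =
          u * (g⁻¹ * h⁻¹ * g * h) * u⁻¹ * (u⁻¹⁻¹ * h⁻¹ * u⁻¹ * h) := by group
      have e3 : u⁻¹⁻¹ * h⁻¹ * u⁻¹ * h = u * (u⁻¹ * h⁻¹ * u * h)⁻¹ * u⁻¹ * (h⁻¹ * h) := by group
      have c1 : u * (g⁻¹ * h⁻¹ * g * h) * u⁻¹ = g⁻¹ * h⁻¹ * g * h := by rw [hg2' h hh u, mul_inv_cancel_right]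
      have c2 : u * (u⁻¹ * h⁻¹ * u * h)⁻¹ * u⁻¹ = (u⁻¹ * h⁻¹ * u * h)⁻¹ := by
        rw [(Commute.inv_right (hu2 h hh u : Commute u _)).eq, mul_inv_cancel_right]
      rw [e2, e3, c1, c2, inv_mul_cancel, mul_one]
      exact (Commute.mul_right (hg2' h hh k : Commute k _) (Commute.inv_right (hu2 h hh k : Commute k _))).eq
  refine Or.inr ?_
  -- the commutator map
  set φ : X → X := fun h => a⁻¹ * h⁻¹ * a * h with hφdef
  have hφP : ∀ h ∈ P, φ h ∈ P := fun h hh => mul_mem (mul_mem (mul_mem (inv_mem haP) (inv_mem hh)) haP) hh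
  have hφc : ∀ h ∈ P, ∀ x : X, x * φ h = φ h * x := fun h hh => hZc _ (hφP h hh) fun k hk => (ha2 h hh k hk).symm
  have hφmul : ∀ h ∈ P, ∀ k ∈ P, φ (h * k) = φ h * φ k := by
    intro h hh k hk
    have e : φ (h * k) = φ k * (k⁻¹ * φ h * k) := by simp only [hφdef]; group
    rw [e, show k⁻¹ * φ h * k = φ h by rw [hφc h hh k⁻¹, inv_mul_cancel_right], hφc h hh]
  have hφpow : ∀ h ∈ P, ∀ m : ℕ, φ (h ^ m) = φ h ^ m := fun h hh m => by
    induction m with
    | zero => simp [hφdef]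
    | succ m ih => rw [pow_succ, hφmul _ (pow_mem hh m) _ hh, ih, pow_succ]
  have hfixed : ∀ s ∈ P, Commute d s → φ s = 1 := by
    intro s hs hds
    refine hodd S (hφP s hs) ?_
    have hdsd : d * s⁻¹ * d = s⁻¹ := by rw [hds.inv_right.eq, mul_assoc, (S.inv d hd).1, mul_one]
    have hdsd' : d * s * d = s := by rw [hds.eq, mul_assoc, (S.inv d hd).1, mul_one]
    have hcd : φ s = d * φ s * d := by rw [hφc s hs d, mul_assoc, (S.inv d hd).1, mul_one]
    have e1 : d * φ s * d = a * s⁻¹ * a⁻¹ * s := by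
      have haa : d * a⁻¹ * d = a := by
        have := congrArg (·⁻¹) hda
        simpa [mul_inv_rev, dinv S hd, mul_assoc] using this
      calc d * φ s * d = (d * a⁻¹ * d) * (d * s⁻¹ * d) * (d * a * d) * (d * s * d) := by
            simp only [hφdef, mul_assoc, CfsgThreeTrans.mul_mul_cancel_self (S.inv d hd).1]
        _ = _ := by rw [haa, hdsd, hda, hdsd']
    have e2 : a * s⁻¹ * a⁻¹ * s = a * (φ s)⁻¹ * a⁻¹ := by
      simp only [hφdef]; group
    rw [e1, e2, (Commute.inv_right (hφc s hs a : Commute a _)).eq, mul_inv_cancel_right] at hcd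
    nth_rewrite 1 [hcd]
    exact inv_mul_cancel _
  have hker : ∀ j ∈ P, φ j = 1 → Commute a j := fun j _ e => by
    simp only [hφdef] at e
    have e' := congrArg (fun t => j * a * t) e
    simp [mul_assoc] at e'
    exact e'
  have hinvker : ∀ j ∈ P, d * j * d = j⁻¹ → φ j = 1 → j = 1 ∨ j = a ∨ j = a⁻¹ := fun j hj hdj e =>
    cases_commute S hd haP hda hj hdj ha1 (hker j hj e)
  -- the image
  obtain ⟨b, hbP, hdb, hb1⟩ : ∃ b ∈ P, d * b * d = b⁻¹ ∧ φ b ≠ 1 := by
    obtain ⟨h, hh, hne⟩ := hA d hd a haP hda ha1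
    obtain ⟨r, s, rfl, hr, hs, hdr, hds⟩ := decomp S hd hh
    refine ⟨r, hr, hdr, fun e => hne ?_⟩
    refine (hker (r * s) (mul_mem hr hs) ?_).eq
    rw [hφmul r hr s hs, e, hfixed s hs hds, mul_one]
  set c := φ b with hc
  have hb3 := inverted_cube S hd hbP hdb
  have hc3 : c ^ 3 = 1 := by rw [hc, ← hφpow b hbP, hb3]; simp [hφdef]
  have hcX : ∀ j ∈ P, d * j * d = j⁻¹ → φ j ≠ 1 → ∀ v, ρ (φ j) v = v → ∀ x, ρ x v = v := by
    intro j hj hdj hne v hv x
    have hdfix : ∀ w : V, ρ (φ j) w = w → ρ d w = w := fun w hw => by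
      refine fixW S hd haP hda hj hdj (z := φ j) ?_ (hφc j hj) ha1 ?_ ?_ ?_ hw
      · simp only [hφdef]
      · intro e; apply hne; simp [e, hφdef]
      · intro e; apply hne; simp [e, hφdef]
      · intro e; apply hne; simp [e, hφdef]
    induction (S.gen ▸ Subgroup.mem_top x : x ∈ Subgroup.closure E) using Subgroup.closure_induction with
    | mem e he =>
      -- every member is conjugate to `d` by an element of `P`
      obtain ⟨m, hm⟩ := sqrt S (prod_mem S hd he)
      set r := (d * e) ^ m with hr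
      have hdr := pow_inverted S hd (prod_inverted S hd he) m
      have e1 : e = r⁻¹ * d * r := by
        rw [← hdr]
        simp only [mul_assoc]
        rw [← mul_assoc d d, (S.inv d hd).1, one_mul, hm, ← mul_assoc, (S.inv d hd).1, one_mul]
      rw [e1, map_mul, map_mul, MulAut.mul_apply, MulAut.mul_apply]
      have h1 : ρ (φ j) (ρ r v) = ρ r v := by
        rw [← MulAut.mul_apply, ← map_mul, ← hφc j hj r, map_mul, MulAut.mul_apply, hv]
      rw [hdfix _ h1, ← MulAut.mul_apply, ← map_mul, inv_mul_cancel, map_one, MulAut.one_apply]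
    | one => simp
    | mul p q _ _ hp hq => rw [map_mul, MulAut.mul_apply, hq, hp]
    | inv p _ hp => rw [map_inv]; exact (MulEquiv.symm_apply_eq _).mpr hp.symm
  have himg : ∀ j ∈ P, φ j = 1 ∨ φ j = c ∨ φ j = c⁻¹ := by
    intro j hj
    obtain ⟨r, s, rfl, hr, hs, hdr, hds⟩ := decomp S hd hj
    rw [hφmul r hr s hs, hfixed s hs hds, mul_one]
    by_contra hcon
    push Not at hcon
    obtain ⟨h1, h2, h3⟩ := hcon
    -- all mixed products are commutators of inverted elements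
    have key : ∀ h ∈ P, φ h ≠ 1 → ∀ v, ρ (φ h) v = v → ∀ x, ρ x v = v := by
      intro h hh hne v hv
      obtain ⟨r', s', rfl, hr', hs', hdr', hds'⟩ := decomp S hd hh
      rw [hφmul r' hr' s' hs', hfixed s' hs' hds', mul_one] at hne hv
      exact hcX r' hr' hdr' hne v hv
    refine eq_one_of_fix S hd fun v => ?_
    have hr3 : φ r ^ 3 = 1 := by rw [← hφpow r hr, inverted_cube S hd hr hdr]; simp [hφdef]
    refine four S hc3 hr3 (fun w _ => ?_) (Fx ρ d) ?_ ?_ ?_ ?_
    · rw [← MulAut.mul_apply, ← map_mul, ← MulAut.mul_apply, ← map_mul, (hφc r hr c : c * φ r = φ r * c)]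
    · rintro _ ⟨w, -, -, rfl⟩
      exact key b hbP hb1 _ (trace_fix S hc3 w) d
    · rintro _ ⟨w, -, rfl⟩
      exact key r hr h1 _ (trace_fix S hr3 w) d
    · rintro _ ⟨w, -, rfl⟩
      have e1 : φ (b * r) = c * φ r := hφmul b hbP r hr
      refine key (b * r) (mul_mem hbP hr) ?_ _ ?_ d
      · rw [e1]
        exact fun e => h3 (eq_inv_of_mul_eq_one_right e)
      · rw [e1]
        exact trace_fix S ((Commute.mul_pow (hφc r hr c) 3).trans (by rw [hc3, hr3, one_mul])) w
    · rintro _ ⟨w, -, rfl⟩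
      have hinv : φ r⁻¹ = (φ r)⁻¹ := eq_inv_of_mul_eq_one_left (by rw [← hφmul _ (inv_mem hr) _ hr, inv_mul_cancel]; simp [hφdef])
      have e1 : φ (b * r⁻¹) = c * (φ r)⁻¹ := by rw [hφmul b hbP _ (inv_mem hr), hinv]
      refine key (b * r⁻¹) (mul_mem hbP (inv_mem hr)) ?_ _ ?_ d
      · rw [e1]
        exact fun e => h2 (mul_inv_eq_one.mp e).symm
      · rw [e1]
        exact trace_fix S ((Commute.mul_pow (Commute.inv_right (hφc r hr c : Commute c _)) 3).trans
          (by rw [hc3, inv_pow, hr3, inv_one, one_mul])) w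
  -- the kernel
  let N := Subgroup.closure ({a, c} : Set X)
  have haN : a ∈ N := Subgroup.subset_closure (by simp)
  have hcN : c ∈ N := Subgroup.subset_closure (by simp)
  have hNP : N ≤ P := (Subgroup.closure_le _).mpr (by rintro x (rfl | rfl); exacts [haP, hφP b hbP])
  have hca : Commute a c := hφc b hbP a
  have hconjA : ∀ e ∈ E, e * a * e ∈ N ∧ ∃ k, e * a * e = a⁻¹ * k ∧ (k = 1 ∨ k = c ∨ k = c⁻¹) := by
    intro e he
    set q := d * e with hq
    have hqP := prod_mem S hd he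
    have e1 : e = d * q := by rw [hq, ← mul_assoc, (S.inv d hd).1, one_mul]
    have e0 : e = q⁻¹ * d := by rw [hq, mul_inv_rev, dinv S hd, dinv S he, mul_assoc, (S.inv d hd).1, mul_one]
    have e2 : e * a * e = q⁻¹ * a⁻¹ * q := by
      nth_rewrite 1 [e0]
      nth_rewrite 1 [e1]
      rw [← hda]
      simp only [mul_assoc]
    have e3 : q⁻¹ * a⁻¹ * q = a⁻¹ * (φ q)⁻¹ := by
      have : q⁻¹ * a⁻¹ * q = (q⁻¹ * φ q * q)⁻¹ * a⁻¹ * (a * (q⁻¹ * φ q * q)) * (q⁻¹ * a⁻¹ * q) := by group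
      rw [show q⁻¹ * a⁻¹ * q = (q⁻¹ * a * q)⁻¹ by group, show q⁻¹ * a * q = a * φ q by simp only [hφdef]; group,
        mul_inv_rev, ((Commute.inv_inv (hφc q hqP a : Commute a (φ q)))).eq]
    rw [e2, e3]
    rcases himg q hqP with e | e | e <;> rw [e]
    · exact ⟨by simpa using haN, 1, by simp, Or.inl rfl⟩
    · exact ⟨mul_mem (inv_mem haN) (inv_mem hcN), c⁻¹, rfl, Or.inr (Or.inr rfl)⟩
    · exact ⟨mul_mem (inv_mem haN) (by rw [inv_inv]; exact hcN), c, by rw [inv_inv], Or.inr (Or.inl rfl)⟩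
  haveI hNn : N.Normal := by
    refine ⟨fun n hn g => ?_⟩
    have hg : ∀ g : X, N ≤ N.comap (MulAut.conj g).toMonoidHom := by
      intro g
      induction (S.gen ▸ Subgroup.mem_top g : g ∈ Subgroup.closure E) using Subgroup.closure_induction_left with
      | one => intro n hn; simpa using hn
      | mul_left e he y _ ih =>
        intro n hn
        have h1 := ih hn
        have h2 : N ≤ N.comap (MulAut.conj e).toMonoidHom := (Subgroup.closure_le _).mpr (by
          rintro x (rfl | rfl)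
          · show e * x * e⁻¹ ∈ N
            rw [dinv S he]; exact (hconjA e he).1
          · show e * c * e⁻¹ ∈ N
            rw [hφc b hbP e, mul_inv_cancel_right]; exact hcN)
        have h3 := h2 h1
        simpa [mul_assoc] using h3
      | inv_mul_cancel e he y _ ih =>
        intro n hn
        have h1 := ih hn
        have h2 : N ≤ N.comap (MulAut.conj e).toMonoidHom := (Subgroup.closure_le _).mpr (by
          rintro x (rfl | rfl)
          · show e * x * e⁻¹ ∈ N
            rw [dinv S he]; exact (hconjA e he).1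
          · show e * c * e⁻¹ ∈ N
            rw [hφc b hbP e, mul_inv_cancel_right]; exact hcN)
        have h3 := h2 h1
        simpa [mul_assoc, dinv S he] using h3
    exact hg g hn
  have hb3i : b⁻¹ = b ^ 2 := inv_eq_of_mul_eq_one_right (by rw [← pow_succ']; exact hb3)
  let π := QuotientGroup.mk' N
  -- the kernel of `φ` maps into the centre of the quotient
  have hKc : ∀ k ∈ P, φ k = 1 → ∃ s ∈ P, Commute d s ∧ π k = π s ∧ ∀ e ∈ E, Commute (π e) (π s) := by
    intro k hk hk1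
    obtain ⟨r, s, rfl, hr, hs, hdr, hds⟩ := decomp S hd hk
    have hφs := hfixed s hs hds
    have hφr : φ r = 1 := by rw [hφmul r hr s hs, hφs, mul_one] at hk1; exact hk1
    have hrN : r ∈ N := by
      rcases hinvker r hr hdr hφr with e | e | e <;> rw [e]
      exacts [one_mem _, haN, inv_mem haN]
    refine ⟨s, hs, hds, ?_, fun e he => ?_⟩
    · rw [map_mul, show π r = 1 from (QuotientGroup.eq_one_iff r).mpr hrN, one_mul]
    set t := e * s * e * s⁻¹ with ht
    have htP : t ∈ P := mul_mem (conjP S he hs) (inv_mem hs)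
    have het : e * t * e = t⁻¹ := by
      rw [ht]
      simp only [mul_inv_rev, inv_inv, dinv S he, mul_assoc, CfsgThreeTrans.mul_mul_cancel_self (S.inv e he).1]
    have has : Commute a s := hker s hs hφs
    obtain ⟨-, kk, hkk, hkc⟩ := hconjA e he
    have hkkc : ∀ x : X, Commute x kk := by
      intro x
      rcases hkc with e' | e' | e' <;> rw [e']
      exacts [Commute.one_right x, hφc b hbP x, Commute.inv_right (hφc b hbP x)]
    have hat : Commute a t := by
      have h1 : Commute (e * a * e) (e * s * e) := by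
        have := Commute.map has (MulAut.conj e).toMonoidHom
        simpa [dinv S he] using this
      have h2 : Commute (a⁻¹) (e * s * e) := by
        have h3 := h1
        rw [hkk] at h3
        have := h3.mul_left (Commute.inv_left (hkkc (e * s * e)).symm)
        rwa [mul_inv_cancel_right] at this
      have h4 : Commute a (e * s * e) := by simpa using h2.inv_left
      exact h4.mul_right has.inv_right
    -- an inverted element of the kernel for `e`
    obtain ⟨m, hm⟩ := sqrt S (prod_mem S hd he)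
    set w := (d * e) ^ m with hw
    have hwP : w ∈ P := pow_mem (prod_mem S hd he) m
    have hdw := pow_inverted S hd (prod_inverted S hd he) m
    have e1 : e = w⁻¹ * d * w := by
      rw [← hdw]
      simp only [mul_assoc]
      rw [← mul_assoc d d, (S.inv d hd).1, one_mul, hm, ← mul_assoc, (S.inv d hd).1, one_mul]
    have htw : w * t * w⁻¹ ∈ P := S.normal.conj_mem t htP w
    have hdtw : d * (w * t * w⁻¹) * d = (w * t * w⁻¹)⁻¹ := by
      have := congrArg (fun x => w * x * w⁻¹) het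
      rw [e1] at this
      simp only [mul_assoc, mul_inv_cancel_left, mul_inv_cancel, mul_one] at this
      simpa [mul_assoc] using this
    have hφt : φ (w * t * w⁻¹) = 1 := by
      have hzero : φ t = 1 := by
        simp only [hφdef]
        rw [mul_assoc, hat.eq, ← mul_assoc, inv_mul_cancel_right, inv_mul_cancel]
      rw [hφmul _ (mul_mem hwP htP) _ (inv_mem hwP), hφmul w hwP t htP, hzero, mul_one, ← hφmul w hwP _ (inv_mem hwP),
        mul_inv_cancel]
      simp [hφdef]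
    have htN : t ∈ N := by
      have hmem : w * t * w⁻¹ ∈ N := by
        rcases hinvker _ htw hdtw hφt with e' | e' | e' <;> rw [e']
        exacts [one_mem _, haN, inv_mem haN]
      simpa [mul_assoc] using hNn.conj_mem _ hmem w⁻¹
    have h5 : π t = 1 := (QuotientGroup.eq_one_iff t).mpr htN
    have hπi : (π e)⁻¹ = π e := by rw [← map_inv, dinv S he]
    rw [ht, map_mul, map_inv, mul_inv_eq_one, map_mul, map_mul] at h5
    show π e * π s = π s * π e
    calc π e * π s = π e * π s * π e * (π e)⁻¹ := by group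
      _ = π s * π e := by rw [h5, hπi]
  -- every element of `P` maps to a power of `b` times a central element
  have hPimg : ∀ g ∈ P, ∃ m : ℕ, m < 3 ∧ φ (b⁻¹ ^ m * g) = 1 := by
    intro g hg
    have hφi : φ b⁻¹ = c⁻¹ := eq_inv_of_mul_eq_one_left (by rw [hc, ← hφmul _ (inv_mem hbP) _ hbP, inv_mul_cancel]; simp [hφdef])
    rcases himg g hg with e | e | e
    · exact ⟨0, by norm_num, by simpa using e⟩
    · exact ⟨1, by norm_num, by rw [pow_one, hφmul _ (inv_mem hbP) _ hg, hφi, e, inv_mul_cancel]⟩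
    · refine ⟨2, by norm_num, ?_⟩
      rw [hφmul _ (pow_mem (inv_mem hbP) 2) _ hg, hφpow _ (inv_mem hbP), hφi, e, ← pow_succ, inv_pow, hc3, inv_one]
  have hKall : ∀ k ∈ P, φ k = 1 → ∀ x : X, Commute (π x) (π k) := by
    intro k hk hk1 x
    obtain ⟨s, -, -, hks, hcomm⟩ := hKc k hk hk1
    rw [hks]
    induction (S.gen ▸ Subgroup.mem_top x : x ∈ Subgroup.closure E) using Subgroup.closure_induction with
    | mem e he => exact hcomm e he
    | one => rw [map_one]; exact Commute.one_left _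
    | mul p q _ _ hp hq => rw [map_mul]; exact hp.mul_left hq
    | inv p _ hp => rw [map_inv]; exact hp.inv_left
  have hPab : ∀ g ∈ P, ∀ h ∈ P, Commute (π g) (π h) := by
    intro g hg h hh
    obtain ⟨m, -, hm⟩ := hPimg g hg
    obtain ⟨n, -, hn⟩ := hPimg h hh
    have hgm := hKall _ (mul_mem (pow_mem (inv_mem hbP) m) hg) hm
    have hhn := hKall _ (mul_mem (pow_mem (inv_mem hbP) n) hh) hn
    have eg : π g = π (b ^ m) * π (b⁻¹ ^ m * g) := by rw [← map_mul, inv_pow, mul_inv_cancel_left]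
    have eh : π h = π (b ^ n) * π (b⁻¹ ^ n * h) := by rw [← map_mul, inv_pow, mul_inv_cancel_left]
    rw [eg, eh]
    exact ((Commute.map (Commute.pow_pow_self b m n) π).mul_right (hhn _)).mul_left
      (((hgm _).symm).mul_right (hhn _))
  -- `d` inverts the quotient
  have hinvall : ∀ g ∈ P, π (d * g * d) = (π g)⁻¹ := by
    intro g hg
    let T : Subgroup X :=
      { carrier := {x | x ∈ P ∧ π (d * x * d) = (π x)⁻¹}
        one_mem' := ⟨one_mem P, by rw [mul_one, (S.inv d hd).1, map_one, inv_one]⟩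
        mul_mem' := fun {x y} hx hy => ⟨mul_mem hx.1 hy.1, by
          rw [show d * (x * y) * d = (d * x * d) * (d * y * d) by
            simp only [mul_assoc, CfsgThreeTrans.mul_mul_cancel_self (S.inv d hd).1], map_mul, hx.2, hy.2, map_mul,
            ((hPab x hx.1 y hy.1).inv_inv).eq, mul_inv_rev]⟩
        inv_mem' := fun {x} hx => ⟨inv_mem hx.1, by
          rw [show d * x⁻¹ * d = (d * x * d)⁻¹ by simp [mul_assoc, dinv S hd], map_inv, hx.2, map_inv]⟩ }
    have hT : ∀ x : X, x ∈ T ∨ d * x ∈ T := by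
      intro x
      induction (S.gen ▸ Subgroup.mem_top x : x ∈ Subgroup.closure E) using Subgroup.closure_induction_left with
      | one => exact Or.inl (one_mem T)
      | mul_left e he y _ ih =>
        have hq : d * e ∈ T := ⟨prod_mem S hd he, by rw [prod_inverted S hd he, map_inv]⟩
        rcases ih with h | h
        · exact Or.inr (by rw [← mul_assoc]; exact mul_mem hq h)
        · refine Or.inl ?_
          have h2 := mul_mem (inv_mem hq) h
          rwa [mul_inv_rev, dinv S hd, dinv S he, mul_assoc, ← mul_assoc d d, (S.inv d hd).1, one_mul] at h2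
      | inv_mul_cancel e he y _ ih =>
        rw [dinv S he]
        have hq : d * e ∈ T := ⟨prod_mem S hd he, by rw [prod_inverted S hd he, map_inv]⟩
        rcases ih with h | h
        · exact Or.inr (by rw [← mul_assoc]; exact mul_mem hq h)
        · refine Or.inl ?_
          have h2 := mul_mem (inv_mem hq) h
          rwa [mul_inv_rev, dinv S hd, dinv S he, mul_assoc, ← mul_assoc d d, (S.inv d hd).1, one_mul] at h2
    rcases hT g with h | h
    · exact h.2
    · exfalso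
      have : d ∈ P := by have := mul_mem h.1 (inv_mem hg); rwa [mul_inv_cancel_right] at this
      exact notMem S hd this
  have hKN : ∀ k ∈ P, φ k = 1 → k ∈ N := by
    intro k hk hk1
    obtain ⟨s, hs, hds, hks, -⟩ := hKc k hk hk1
    have h1 := hinvall s hs
    rw [hds.eq, mul_assoc, (S.inv d hd).1, mul_one] at h1
    have h3 : π (s * s) = 1 := by rw [map_mul]; nth_rewrite 1 [h1]; exact inv_mul_cancel _
    obtain ⟨m, hm⟩ := sqrt S hs
    have h4 : (s * s) ^ m ∈ N := pow_mem ((QuotientGroup.eq_one_iff _).mp h3) m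
    rw [(Commute.refl s).mul_pow, hm] at h4
    have hsN : π s = 1 := (QuotientGroup.eq_one_iff s).mpr h4
    exact (QuotientGroup.eq_one_iff k).mp (hks.trans hsN)
  have hcen : c ∈ Subgroup.center X := Subgroup.mem_center_iff.mpr (hφc b hbP)
  refine ⟨?_, fun e => hb1 (by rw [e, Subgroup.mem_bot] at hcen; exact hcen)⟩
  -- the order
  have ha3 := inverted_cube S hd haP hda
  have hAC : ∀ g ∈ N, ∃ i k : Fin 3, g = a ^ (i : ℕ) * c ^ (k : ℕ) := by
    intro g hg
    have red : ∀ {q : X}, q ^ 3 = 1 → ∀ n, q ^ (n % 3) = q ^ n := fun {q} hq n => by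
      conv_rhs => rw [← Nat.mod_add_div n 3, pow_add, pow_mul, hq, one_pow, mul_one]
    have hstep : ∀ g : X, (∃ i k : ℕ, g = a ^ i * c ^ k) → ∃ i k : Fin 3, g = a ^ (i : ℕ) * c ^ (k : ℕ) := by
      rintro g ⟨i, k, rfl⟩
      exact ⟨⟨i % 3, Nat.mod_lt _ (by norm_num)⟩, ⟨k % 3, Nat.mod_lt _ (by norm_num)⟩, by rw [red ha3, red hc3]⟩
    refine hstep g ?_
    induction hg using Subgroup.closure_induction with
    | mem x hx =>
      rcases hx with rfl | rfl
      · exact ⟨1, 0, by simp⟩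
      · exact ⟨0, 1, by simp⟩
    | one => exact ⟨0, 0, by simp⟩
    | mul x y _ _ hx hy =>
      obtain ⟨i, k, rfl⟩ := hx
      obtain ⟨i', k', rfl⟩ := hy
      refine ⟨i + i', k + k', ?_⟩
      rw [pow_add, pow_add]
      calc a ^ i * c ^ k * (a ^ i' * c ^ k') = a ^ i * (c ^ k * a ^ i') * c ^ k' := by simp only [mul_assoc]
        _ = a ^ i * (a ^ i' * c ^ k) * c ^ k' := by rw [((hca.pow_pow i' k).symm).eq]
        _ = _ := by simp only [mul_assoc]
    | inv x _ hx =>
      obtain ⟨i, k, rfl⟩ := hx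
      refine ⟨2 * i, 2 * k, ?_⟩
      rw [mul_inv_rev, ((hca.pow_pow i k).inv_inv).symm.eq]
      congr 1
      · refine inv_eq_of_mul_eq_one_right ?_
        rw [← pow_add, show i + 2 * i = 3 * i by ring, pow_mul, ha3, one_pow]
      · refine inv_eq_of_mul_eq_one_right ?_
        rw [← pow_add, show k + 2 * k = 3 * k by ring, pow_mul, hc3, one_pow]
  have hle : Nat.card P ≤ 27 := by
    have hsur : ∀ g : P, ∃ p : Fin 3 × Fin 3 × Fin 3, (g : X) = b ^ (p.1 : ℕ) * (a ^ (p.2.1 : ℕ) * c ^ (p.2.2 : ℕ)) := by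
      intro g
      obtain ⟨m, hm3, hm⟩ := hPimg g g.2
      obtain ⟨i, k, hik⟩ := hAC _ (hKN _ (mul_mem (pow_mem (inv_mem hbP) m) g.2) hm)
      exact ⟨(⟨m, hm3⟩, i, k), by rw [← hik, inv_pow, mul_inv_cancel_left]⟩
    choose f hf using hsur
    refine le_of_le_of_eq (Nat.card_le_card_of_injective f fun g g' e => Subtype.ext (by rw [hf g, hf g', e])) ?_
    simp
  obtain ⟨n, hn⟩ := IsPGroup.iff_card.mp S.pgroup
  rcases Nat.lt_or_ge n 3 with h | h
  · exfalso
    refine hb1 ?_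
    have hab' : a * b = b * a := by
      interval_cases n
      · rw [Subgroup.card_eq_one.mp hn] at haP
        exact absurd (Subgroup.mem_bot.mp haP) ha1
      · haveI : IsCyclic P := isCyclic_of_prime_card (p := 3) (by simpa using hn)
        letI : CommGroup P := IsCyclic.commGroup
        exact congrArg Subtype.val (mul_comm (⟨a, haP⟩ : P) ⟨b, hbP⟩)
      · exact congrArg Subtype.val (IsPGroup.commutative_of_card_eq_prime_sq (p := 3) hn (⟨a, haP⟩ : P) ⟨b, hbP⟩)
    show a⁻¹ * b⁻¹ * a * b = 1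
    rw [mul_assoc, hab']; group
  · have h1 : 27 ≤ 3 ^ n := by
      calc 27 = 3 ^ 3 := by norm_num
        _ ≤ 3 ^ n := Nat.pow_le_pow_right (by norm_num) h
    rw [hn] at hle ⊢
    omega

end CfsgTTT
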