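/-
Groups generated by 3-transpositions with `F* = O₂` whose quotient by `O₂` is a 3-group extended by a 2-group.
-/
import Cfsg.Agent.Lib.TwoThreeTwo.Module
import Cfsg.Agent.Lib.ThreeTrans.SU32Derived
import Cfsg.Agent.Lib.CoprimeGen
import Cfsg.Agent.Lib.Components
import Cfsg.Agent.Lib.Elementary
import Cfsg.Prelude.Def_SporadicB
import Mathlib.FieldTheory.Finite.GaloisField

set_option autoImplicit false
set_option linter.style.haveILetI false

namespace CfsgTTT

open Cfsg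
open scoped commutatorElement

/-- In a finite 2-group generated by a set of pairwise conjugate involutions, that set is a singleton
generating the whole group. -/
theorem twoGroup_class {Q : Type*} [Group Q] [Finite Q] (hQ : IsPGroup 2 Q) {C : Set Q}
    (hconj : ∀ c ∈ C, ∀ c' ∈ C, IsConj c c') (hgen : Subgroup.closure C = ⊤) {c : Q} (hc : c ∈ C)
    (hc2 : c * c = 1) : Nat.card Q ∣ 2 ∧ ∀ c' ∈ C, c' = c := by
  haveI : Fact (Nat.Prime 2) := ⟨Nat.prime_two⟩
  have hsup : Subgroup.zpowers c ⊔ frattini Q = ⊤ := by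
    rw [← top_le_iff, ← hgen, Subgroup.closure_le]
    intro c' hc'
    obtain ⟨g, hg⟩ := isConj_iff.mp (hconj c hc c' hc')
    rw [← hg, show g * c * g⁻¹ = ⁅g, c⁆ * c by rw [commutatorElement_def, inv_mul_cancel_right]]
    exact mul_mem (Subgroup.mem_sup_right (CfsgLib.commutator_le_frattini_pGroup hQ
      (Subgroup.commutator_mem_commutator (Subgroup.mem_top _) (Subgroup.mem_top _))))
      (Subgroup.mem_sup_left (Subgroup.mem_zpowers c))
  have htop : Subgroup.zpowers c = ⊤ := frattini_nongenerating hsup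
  refine ⟨?_, fun c' hc' => ?_⟩
  · rw [← Subgroup.card_top (G := Q), ← htop, Nat.card_zpowers]
    exact orderOf_dvd_of_pow_eq_one (by rw [sq, hc2])
  · obtain ⟨g, hg⟩ := isConj_iff.mp (hconj c hc c' hc')
    obtain ⟨i, rfl⟩ := Subgroup.mem_zpowers_iff.mp (htop ▸ Subgroup.mem_top g)
    rw [← hg, ((Commute.refl c).zpow_left i).eq, mul_inv_cancel_right]

/-- Two groups of order 54 each generated by three transpositions in general position are isomorphic. -/
theorem triple_iso {X Y : Type*} [Group X] [Group Y] [Finite X] [Finite Y]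
    (hX : Nat.card X = 54) (hY : Nat.card Y = 54) {a b c : X} {a' b' c' : Y}
    (hT : CfsgThreeTrans.Triple a b c) (hT' : CfsgThreeTrans.Triple a' b' c')
    (hg : Subgroup.closure ({a, b, c} : Set X) = ⊤) (hg' : Subgroup.closure ({a', b', c'} : Set Y) = ⊤) :
    Nonempty (X ≃* Y) := by
  have hTT : CfsgThreeTrans.Triple ((a, a') : X × Y) (b, b') (c, c') :=
    ⟨Prod.ext hT.aa hT'.aa, Prod.ext hT.bb hT'.bb, Prod.ext hT.cc hT'.cc, Prod.ext hT.ab hT'.ab,
      Prod.ext hT.ac hT'.ac, Prod.ext hT.bc hT'.bc, Prod.ext hT.abcb hT'.abcb⟩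
  set W := Subgroup.closure ({(a, a'), (b, b'), (c, c')} : Set (X × Y)) with hW
  have hle : Nat.card W ≤ 54 := hTT.card_le
  have s1 : W.map (MonoidHom.fst X Y) = ⊤ := by
    rw [hW, MonoidHom.map_closure, Set.image_insert_eq, Set.image_pair]; exact hg
  have s2 : W.map (MonoidHom.snd X Y) = ⊤ := by
    rw [hW, MonoidHom.map_closure, Set.image_insert_eq, Set.image_pair]; exact hg'
  have b1 : Function.Bijective ((MonoidHom.fst X Y).comp W.subtype) := by
    refine Function.Surjective.bijective_of_nat_card_le (fun x => ?_) (hX ▸ hle)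
    obtain ⟨w, hw, rfl⟩ := (s1 ▸ Subgroup.mem_top x : x ∈ W.map (MonoidHom.fst X Y))
    exact ⟨⟨w, hw⟩, rfl⟩
  have b2 : Function.Bijective ((MonoidHom.snd X Y).comp W.subtype) := by
    refine Function.Surjective.bijective_of_nat_card_le (fun x => ?_) (hY ▸ hle)
    obtain ⟨w, hw, rfl⟩ := (s2 ▸ Subgroup.mem_top x : x ∈ W.map (MonoidHom.snd X Y))
    exact ⟨⟨w, hw⟩, rfl⟩
  exact ⟨(MulEquiv.ofBijective _ b1).symm.trans (MulEquiv.ofBijective _ b2)⟩

theorem s5559 {H : Type*} [Group H] [Finite H] {E : Set H} (hE : Cfsg.IsThreeTranspositionClass E)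
    (hE2 : ∃ a ∈ E, ∃ b ∈ E, a ≠ b) (hF : Cfsg.generalizedFittingSubgroup H = Cfsg.pCore 2 H)
    (h232 : ∃ P : Sylow 3 (H ⧸ Cfsg.pCore 2 H), (P : Subgroup (H ⧸ Cfsg.pCore 2 H)).Normal ∧
      ∃ k : ℕ, (P : Subgroup (H ⧸ Cfsg.pCore 2 H)).index = 2 ^ k) :
    Nonempty (H ⧸ Cfsg.pCore 2 H ≃* Equiv.Perm (Fin 3)) ∨
      ∃ (F : Type) (_ : Field F) (_ : Fintype F), Fintype.card F = 4 ∧
        Nonempty (H ⧸ Cfsg.pCore 2 H ≃* ↥(commutator ↥(Cfsg.SU 3 F 2))) := by
  classical
  haveI : Fact (Nat.Prime 2) := ⟨Nat.prime_two⟩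
  haveI : Fact (Nat.Prime 3) := ⟨Nat.prime_three⟩
  obtain ⟨⟨hord, hprod⟩, ⟨d₀, hd₀, hDc⟩, hgen⟩ := hE
  obtain ⟨P, hPn, k, hk⟩ := h232
  haveI := hPn
  set O := Cfsg.pCore 2 H with hO
  have hO2 : IsPGroup 2 O := CfsgLib.isPGroup_pCore 2
  have hsq : ∀ d ∈ E, d * d = 1 := fun d hd => by rw [← sq, ← hord d hd, pow_orderOf_eq_one]
  have hconjH : ∀ d ∈ E, ∀ e ∈ E, IsConj d e := fun d hd e he => by
    rw [hDc] at hd he
    exact (show IsConj d₀ d from hd).symm.trans (show IsConj d₀ e from he)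
  have hclass : ∀ g : H, ∀ d ∈ E, g * d * g⁻¹ ∈ E := fun g d hd => by
    rw [hDc] at hd ⊢
    exact (show IsConj d₀ d from hd).trans (isConj_iff.mpr ⟨g, rfl⟩)
  let m : H →* H ⧸ O := QuotientGroup.mk' O
  set E' : Set (H ⧸ O) := m '' E with hE'
  have hgen' : Subgroup.closure E' = ⊤ := by
    rw [hE', ← MonoidHom.map_closure, hgen, Subgroup.map_top_of_surjective _ (QuotientGroup.mk'_surjective _)]
  have hconj' : ∀ c ∈ E', ∀ c' ∈ E', IsConj c c' := by
    rintro _ ⟨d, hd, rfl⟩ _ ⟨e, he, rfl⟩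
    exact m.map_isConj (hconjH d hd e he)
  -- the quotient is not a 2-group
  have hnot2 : ¬ IsPGroup 2 (H ⧸ O) := by
    intro h
    have hH2 : IsPGroup 2 H := fun g => by
      obtain ⟨i, hi⟩ := h (m g)
      rw [← map_pow] at hi
      obtain ⟨j, hj⟩ := hO2 ⟨g ^ 2 ^ i, (QuotientGroup.eq_one_iff _).mp hi⟩
      refine ⟨i + j, ?_⟩
      rw [pow_add, pow_mul]
      exact congrArg Subtype.val hj
    obtain ⟨a, ha, b, hb, hab⟩ := hE2
    exact hab (((twoGroup_class hH2 hconjH hgen ha (hsq a ha)).2 b hb).symm)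
  have hd0' : m d₀ ≠ 1 := by
    intro h1
    apply hnot2
    have hall : E' ⊆ ({1} : Set (H ⧸ O)) := fun c hc => by
      obtain ⟨g, hg⟩ := isConj_iff.mp (hconj' (m d₀) ⟨d₀, hd₀, rfl⟩ c hc)
      rw [Set.mem_singleton_iff, ← hg, h1, mul_one, mul_inv_cancel]
    intro g
    refine ⟨0, ?_⟩
    have : g ∈ Subgroup.closure ({1} : Set (H ⧸ O)) := Subgroup.closure_mono hall (hgen' ▸ Subgroup.mem_top g)
    rw [Subgroup.closure_singleton_one, Subgroup.mem_bot] at this
    rw [this, one_pow]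
  have hne1 : ∀ d ∈ E, m d ≠ 1 := fun d hd h1 => hd0' (by
    obtain ⟨g, hg⟩ := isConj_iff.mp (hconj' (m d) ⟨d, hd, rfl⟩ (m d₀) ⟨d₀, hd₀, rfl⟩)
    rw [← hg, h1, mul_one, mul_inv_cancel])
  have hsq' : ∀ d ∈ E, m d * m d = 1 := fun d hd => by rw [← map_mul, hsq d hd, map_one]
  -- the index
  have hindex : (P : Subgroup (H ⧸ O)).index = 2 := by
    let q : H ⧸ O →* (H ⧸ O) ⧸ (P : Subgroup (H ⧸ O)) := QuotientGroup.mk' _
    have hQ : IsPGroup 2 ((H ⧸ O) ⧸ (P : Subgroup (H ⧸ O))) := IsPGroup.of_card (by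
      rw [← Subgroup.index_eq_card]; exact hk)
    have hd := (twoGroup_class hQ (C := q '' E')
      (by rintro _ ⟨c, hc, rfl⟩ _ ⟨c', hc', rfl⟩; exact q.map_isConj (hconj' c hc c' hc'))
      (by rw [← MonoidHom.map_closure, hgen', Subgroup.map_top_of_surjective _ (QuotientGroup.mk'_surjective _)])
      ⟨m d₀, ⟨d₀, hd₀, rfl⟩, rfl⟩ (by rw [← map_mul, hsq' d₀ hd₀, map_one])).1
    rw [← Subgroup.index_eq_card] at hd
    rcases (Nat.dvd_prime Nat.prime_two).mp hd with h | h
    · exfalso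
      refine hd0' ?_
      have hmem : m d₀ ∈ (P : Subgroup (H ⧸ O)) := (Subgroup.index_eq_one.mp h) ▸ Subgroup.mem_top _
      obtain ⟨i, hi⟩ := IsPGroup.iff_orderOf.mp P.isPGroup' ⟨m d₀, hmem⟩
      rw [Subgroup.orderOf_mk] at hi
      have hc : Nat.Coprime (orderOf (m d₀)) 2 := by rw [hi]; exact Nat.Coprime.pow_left _ (by norm_num)
      exact orderOf_eq_one_iff.mp (hc.eq_one_of_dvd (orderOf_dvd_of_pow_eq_one (by rw [sq, hsq' d₀ hd₀])))
    · exact h
  have hoddP : ∀ g ∈ (P : Subgroup (H ⧸ O)), g * g = 1 → g = 1 := by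
    intro g hg h
    obtain ⟨i, hi⟩ := IsPGroup.iff_orderOf.mp P.isPGroup' ⟨g, hg⟩
    rw [Subgroup.orderOf_mk] at hi
    have hc : Nat.Coprime (orderOf g) 2 := by rw [hi]; exact Nat.Coprime.pow_left _ (by norm_num)
    exact orderOf_eq_one_iff.mp (hc.eq_one_of_dvd (orderOf_dvd_of_pow_eq_one (by rw [sq, h])))
  have h3 : ∀ d ∈ E, ∀ e ∈ E, m d ≠ m e → (d * e) ^ 3 = 1 := by
    intro d hd e he hne
    refine (hprod d hd e he).resolve_left fun h2 => hne ?_
    have hmem : m d * m e ∈ (P : Subgroup (H ⧸ O)) := (Subgroup.mul_mem_iff_of_index_two hindex).mpr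
      (iff_of_false (fun h => hne1 d hd (hoddP _ h (hsq' d hd))) (fun h => hne1 e he (hoddP _ h (hsq' e he))))
    have := hoddP _ hmem (by rw [← map_mul, ← map_mul, ← sq, h2, map_one])
    rw [mul_eq_one_iff_eq_inv.mp this, inv_eq_of_mul_eq_one_right (hsq' e he)]
  -- the module
  have hcomm : ∀ x y : ↥O ⧸ frattini ↥O, x * y = y * x := by
    intro x y
    induction x using QuotientGroup.induction_on with
    | _ x => induction y using QuotientGroup.induction_on with
      | _ y =>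
        refine (QuotientGroup.eq).mpr (CfsgLib.commutator_le_frattini_pGroup hO2 ?_)
        rw [show (x * y)⁻¹ * (y * x) = ⁅y⁻¹, x⁻¹⁆ by rw [commutatorElement_def]; group]
        exact Subgroup.commutator_mem_commutator (Subgroup.mem_top _) (Subgroup.mem_top _)
  letI iV : CommGroup (↥O ⧸ frattini ↥O) := { (inferInstance : Group (↥O ⧸ frattini ↥O)) with mul_comm := hcomm }
  have hFc : ∀ g : H, (frattini ↥O).map (MulAut.conjNormal g : ↥O ≃* ↥O).toMonoidHom = frattini ↥O := fun g =>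
    Subgroup.characteristic_iff_map_eq.mp inferInstance _
  let ψ : H →* MulAut (↥O ⧸ frattini ↥O) := MonoidHom.mk'
    (fun g => QuotientGroup.congr (frattini ↥O) (frattini ↥O) (MulAut.conjNormal g) (hFc g))
    (fun g g' => MulEquiv.ext fun v => by
      induction v using QuotientGroup.induction_on with
      | _ v =>
        show ((MulAut.conjNormal (g * g') v : ↥O) : ↥O ⧸ frattini ↥O) = _
        rw [map_mul]; rfl)
  have hψ : ∀ (g : H) (x : ↥O), ψ g (x : ↥O ⧸ frattini ↥O) = ((MulAut.conjNormal g x : ↥O) : ↥O ⧸ frattini ↥O) :=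
    fun g x => rfl
  have hVsq : ∀ v : ↥O ⧸ frattini ↥O, v * v = 1 := by
    intro v
    induction v using QuotientGroup.induction_on with
    | _ v =>
      rw [← QuotientGroup.mk_mul, QuotientGroup.eq_one_iff, ← sq]
      exact CfsgLib.pow_mem_frattini_pGroup hO2 v
  have hker : O ≤ ψ.ker := fun g hg => MulEquiv.ext fun v => by
    induction v using QuotientGroup.induction_on with
    | _ v =>
      rw [hψ, show MulAut.conjNormal g v = ⟨g, hg⟩ * v * (⟨g, hg⟩ : ↥O)⁻¹ from Subtype.ext (by simp)]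
      show _ = (v : ↥O ⧸ frattini ↥O)
      rw [QuotientGroup.mk_mul, QuotientGroup.mk_mul, mul_comm ((⟨g, hg⟩ : ↥O) : ↥O ⧸ frattini ↥O),
        mul_assoc, ← QuotientGroup.mk_mul, mul_inv_cancel, QuotientGroup.mk_one, mul_one]
  have hodd1 : ∀ a ∈ ψ.ker, Odd (orderOf a) → a = 1 := by
    intro a ha hodd
    have hA : Subgroup.zpowers a ≤ Subgroup.centralizer (O : Set H) := by
      refine CfsgLib.centralize_of_trivial_mod_frattini
        (by rw [Subgroup.normalizer_eq_top]; exact le_top) ?_ ?_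
      · obtain ⟨i, hi⟩ := IsPGroup.iff_card.mp (hO2.to_subgroup (frattini ↥O))
        rw [Nat.card_zpowers, hi]
        exact Nat.Coprime.pow_right _ (Nat.coprime_two_right.mpr hodd)
      · intro g hg x hx
        have hgk : ψ g = 1 := (Subgroup.zpowers_le.mpr ha) hg
        refine ⟨MulAut.conjNormal g ⟨x, hx⟩ * (⟨x, hx⟩ : ↥O)⁻¹, ?_, by simp⟩
        show _ ∈ frattini ↥O
        rw [← QuotientGroup.eq_one_iff, QuotientGroup.mk_mul, ← hψ, hgk, MulAut.one_apply,
          ← QuotientGroup.mk_mul, mul_inv_cancel, QuotientGroup.mk_one]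
    have haO : a ∈ O := by
      have := CfsgLib.centralizer_generalizedFitting_le (G := H)
      rw [hF] at this
      exact this (hA (Subgroup.mem_zpowers a))
    obtain ⟨i, hi⟩ := IsPGroup.iff_orderOf.mp hO2 ⟨a, haO⟩
    rw [Subgroup.orderOf_mk] at hi
    rw [← orderOf_eq_one_iff, hi]
    rw [hi] at hodd
    rcases Nat.eq_zero_or_pos i with h | h
    · rw [h, pow_zero]
    · exact absurd hodd (Nat.not_odd_iff_even.mpr (Nat.even_pow.mpr ⟨even_two, h.ne'⟩))
  have hkerO : ψ.ker = O := by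
    refine le_antisymm (CfsgLib.le_pCore (p := 2) ?_) hker
    intro g
    obtain ⟨i, m', hm', hn⟩ := Nat.exists_eq_two_pow_mul_odd (orderOf_pos (g : H)).ne'
    refine ⟨i, Subtype.ext ?_⟩
    rw [Subgroup.coe_pow, Subgroup.coe_one]
    refine hodd1 _ (pow_mem g.2 _) (Odd.of_dvd_nat hm' ?_)
    rw [orderOf_dvd_iff_pow_eq_one, ← pow_mul, ← hn, pow_orderOf_eq_one]
  let ρ : H ⧸ O →* MulAut (↥O ⧸ frattini ↥O) := QuotientGroup.lift O ψ hker
  have hρ : ∀ g : H, ρ (m g) = ψ g := fun g => rfl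
  have hinj : Function.Injective ρ := by
    rw [← MonoidHom.ker_eq_bot_iff, QuotientGroup.ker_lift, hkerO, QuotientGroup.map_mk'_self]
  have hfix : ∀ d ∈ E', ∀ e ∈ E', d ≠ e → ∀ v, ρ (d * e) v = v → ρ d v = v := by
    rintro _ ⟨d, hd, rfl⟩ _ ⟨e, he, rfl⟩ hne v hv
    rw [← map_mul m, hρ] at hv
    rw [hρ]
    induction v using QuotientGroup.induction_on with
    | _ x =>
      set y := d * e with hy
      let u : ↥O := x * MulAut.conjNormal d x⁻¹
      have he'E : (x : H) * d * (x : H)⁻¹ ∈ E := hclass x d hd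
      have hme : m ((x : H) * d * (x : H)⁻¹) = m d := by
        have hx1 : m (x : H) = 1 := (QuotientGroup.eq_one_iff _).mpr x.2
        rw [map_mul, map_mul, map_inv, hx1, one_mul, inv_one, mul_one]
      have hy3 : y ^ 3 = 1 := h3 d hd e he hne
      have huy : ((u : H) * y) ^ 3 = 1 := by
        have := h3 _ he'E e he (hme ▸ hne)
        convert this using 2
        simp [u, hy, mul_assoc]
      have hu3 : u * MulAut.conjNormal y u * MulAut.conjNormal y (MulAut.conjNormal y u) = 1 := by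
        apply Subtype.ext
        rw [Subgroup.coe_mul, Subgroup.coe_mul, MulAut.conjNormal_apply, MulAut.conjNormal_apply,
          MulAut.conjNormal_apply, Subgroup.coe_one]
        calc (u : H) * (y * (u : H) * y⁻¹) * (y * (y * (u : H) * y⁻¹) * y⁻¹)
            = ((u : H) * y) ^ 3 * (y ^ 3)⁻¹ := by rw [pow_three, pow_three]; group
          _ = 1 := by rw [huy, hy3, inv_one, mul_one]
      have hV := congrArg (fun z : ↥O => (z : ↥O ⧸ frattini ↥O)) hu3
      simp only [QuotientGroup.mk_mul, QuotientGroup.mk_one, ← hψ] at hV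
      set v : ↥O ⧸ frattini ↥O := (x : ↥O ⧸ frattini ↥O)
      have hvinv : v⁻¹ = v := inv_eq_of_mul_eq_one_right (hVsq v)
      have hu : (u : ↥O ⧸ frattini ↥O) = v * ψ d v := by
        show ((x * MulAut.conjNormal d x⁻¹ : ↥O) : ↥O ⧸ frattini ↥O) = _
        rw [QuotientGroup.mk_mul, ← hψ, QuotientGroup.mk_inv, hvinv]
      have hyd : ψ y (ψ d v) = ψ d v := by
        have e1 : y * d = d * y⁻¹ := by
          rw [hy, mul_inv_rev, inv_eq_of_mul_eq_one_right (hsq e he), inv_eq_of_mul_eq_one_right (hsq d hd), mul_assoc]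
        have h2 : ψ y⁻¹ v = v := by rw [map_inv]; exact (MulEquiv.symm_apply_eq _).mpr hv.symm
        rw [← MulAut.mul_apply, ← map_mul, e1, map_mul, MulAut.mul_apply, h2]
      rw [hu, map_mul, hv, hyd, map_mul, hv, hyd, hVsq, one_mul] at hV
      nth_rewrite 1 [← hvinv] at hV
      exact (inv_mul_eq_one.mp hV).symm
  have hS : Setting E' (P : Subgroup (H ⧸ O)) ρ := by
    refine ⟨?_, ?_, hgen', ?_, ?_, hPn, P.isPGroup', hindex, hVsq, hinj, hfix⟩
    · rintro _ ⟨d, hd, rfl⟩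
      exact ⟨hsq' d hd, hne1 d hd⟩
    · intro g c hc
      obtain ⟨d, hd, rfl⟩ := hc
      obtain ⟨h, rfl⟩ := QuotientGroup.mk'_surjective O g
      exact ⟨h * d * h⁻¹, hclass h d hd, by simp [m]⟩
    · by_contra hone
      push Not at hone
      apply hnot2
      have hsub : E' ⊆ ({m d₀} : Set (H ⧸ O)) := fun c hc => (hone c hc (m d₀) ⟨d₀, hd₀, rfl⟩)
      have htop : Subgroup.zpowers (m d₀) = ⊤ := by
        rw [Subgroup.zpowers_eq_closure]
        exact top_le_iff.mp (hgen' ▸ Subgroup.closure_mono hsub)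
      refine IsPGroup.of_card (n := 1) ?_
      rw [← Subgroup.card_top (G := H ⧸ O), ← htop, Nat.card_zpowers, pow_one]
      exact orderOf_eq_prime (by rw [sq, hsq' d₀ hd₀]) hd0'
    · rintro _ ⟨d, hd, rfl⟩ _ ⟨e, he, rfl⟩ hne
      rw [← map_mul, ← map_pow, h3 d hd e he hne, map_one]
  rcases main hS with h | ⟨h27, hZ⟩
  · exact Or.inl h
  right
  haveI : Fintype (GaloisField 2 2) := Fintype.ofFinite _
  have hF4 : Fintype.card (GaloisField 2 2) = 4 := by
    rw [← Nat.card_eq_fintype_card, GaloisField.card 2 2 (by norm_num)]; norm_num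
  refine ⟨GaloisField 2 2, inferInstance, inferInstance, hF4, ?_⟩
  obtain ⟨⟨hC54, -, -⟩, a', b', c', hT', hg'⟩ := CfsgThreeTrans.derived_facts_triple hF4
  obtain ⟨a, ha, b, hb, c, hc, hnc, hg⟩ :=
    CfsgThreeTrans.exists_triple (P : Subgroup (H ⧸ O)) hindex h27 hZ hS.inv hgen'
  have hbs := (hS.inv b hb).1
  have hcs := (hS.inv c hc).1
  have hab : a ≠ b := fun e => hnc (by simp [e, hbs])
  have hac : a ≠ c := fun e => hnc (by simp [e, hcs])
  have hbc : b ≠ c := fun e => hnc (by rw [e])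
  have hbcb : b * c * b ∈ E' := by
    have := hS.conj b c hc
    rwa [inv_eq_of_mul_eq_one_right hbs] at this
  have hab' : a ≠ b * c * b := fun e => hnc (by
    have hc' : c = b * a * b := by
      rw [e]
      simp only [← mul_assoc, hbs, one_mul]
      rw [mul_assoc, hbs, mul_one]
    have h : a * c = (a * b) * (a * b) := by rw [hc']; group
    rw [h]; simp only [mul_assoc])
  have hT : CfsgThreeTrans.Triple a b c := ⟨(hS.inv a ha).1, hbs, hcs, hS.three a ha b hb hab,
    hS.three a ha c hc hac, hS.three b hb c hc hbc, hS.three a ha _ hbcb hab'⟩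
  have hX : Nat.card (H ⧸ O) = 54 := by rw [← (P : Subgroup (H ⧸ O)).card_mul_index, h27, hindex]
  exact triple_iso hX hC54 hT hT' hg hg'

end CfsgTTT
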